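import Cfsg.Agent.Nodes.RGDFoldSL
import Cfsg.Agent.Nodes.RGDLib
import Cfsg.Agent.KFacts.MulOdd.Inst
import Cfsg.Agent.Nodes.RGDChev
import Cfsg.Agent.S1035

-- merged: Cfsg.Agent.KFacts.MulOdd.Node
section

/-!
# Rank one groups `SL₂(F)` of a root group datum

`Nd R i φ`: `φ : SL(2, F) →* Y` parametrises the root groups of the fundamental root `i`, the diagonal matrices go to
the torus, `φ (w) = n i` and `φ (-1) ≠ 1`. Then `φ` is injective, its range is `⟨X (sr i), X (-sr i)⟩` and the torus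
of the rank one group has order at most `|F| - 1`.
-/

set_option autoImplicit false
set_option linter.unusedSectionVars false

namespace Cfsg.Agent.KFacts.MulOdd.Node

open CoxeterSystem Cfsg.Agent.ChevalleyStructure.CoxeterGeom Cfsg.Agent.Tits.Roots Cfsg.Agent.Tits.Core
  Cfsg.Agent.Tits.RootComb Cfsg.Agent.Nodes.Comb Cfsg.Agent.Nodes.Reps Cfsg.Agent.Nodes.BNOf Cfsg.Agent.Nodes.BNOf.RGD
open Cfsg.Agent.ChevalleyStructure.SL2Hom (up lo mem_closure_SL2)
open Cfsg.Agent.Nodes.RGDFoldSL (wS hS coe_wS coe_hS lo_eq)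
open scoped MatrixGroups

variable {I W Y : Type*} [Fintype I] [DecidableEq I] [Group W] [Group Y] {M : CoxeterMatrix I}
variable {cs : CoxeterSystem M W} {A : I → I → ℤ} {h : IsCartan M A} {p : ℕ} {T : Subgroup Y} {n : I → Y}
  {X : (I → ℤ) → Subgroup Y}

/-- A homomorphism from `SL(2, F)` onto the rank one group of the node `i`. -/
structure Nd (T : Subgroup Y) (n : I → Y) (X : (I → ℤ) → Subgroup Y) (i : I) {F : Type*} [Field F]
    (φ : SL(2, F) →* Y) : Prop where
  mem : ∀ y, y ∈ X (sr i) ↔ ∃ a, φ (up a) = y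
  inj : ∀ a, φ (up a) = 1 → a = 0
  dia : ∀ c, c ≠ 0 → φ (hS c) ∈ T
  w : φ (wS 1) = n i
  neg : φ (-1) ≠ 1

section Mat

variable {F : Type*} [Field F]

theorem up_zero : up (0 : F) = 1 := by
  apply Subtype.ext
  show (!![1, 0; 0, 1] : Matrix (Fin 2) (Fin 2) F) = 1
  exact Matrix.one_fin_two.symm

theorem up_mul (a b : F) : up a * up b = up (a + b) := by
  apply Subtype.ext
  show (!![1, a; 0, 1] : Matrix (Fin 2) (Fin 2) F) * !![1, b; 0, 1] = !![1, a + b; 0, 1]
  ext i j
  fin_cases i <;> fin_cases j <;> simp [Matrix.mul_apply, Fin.sum_univ_two, add_comm]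

theorem up_inv (a : F) : (up a)⁻¹ = up (-a) := by
  rw [inv_eq_iff_mul_eq_one, up_mul, add_neg_cancel, up_zero]

/-- conjugation of `up` by `diag` -/
theorem hS_up {c : F} (hc : c ≠ 0) (a : F) : hS c * up a * (hS c)⁻¹ = up (c * c * a) := by
  rw [mul_inv_eq_iff_eq_mul]
  apply Subtype.ext
  rw [Matrix.SpecialLinearGroup.coe_mul, Matrix.SpecialLinearGroup.coe_mul, coe_hS hc]
  show _ * (!![1, a; 0, 1] : Matrix (Fin 2) (Fin 2) F) = !![1, c * c * a; 0, 1] * _
  ext i j
  fin_cases i <;> fin_cases j <;> simp [Matrix.mul_apply, Fin.sum_univ_two]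
  field_simp

theorem hS_one : hS (1 : F) = 1 := by
  apply Subtype.ext
  rw [coe_hS one_ne_zero, inv_one, Matrix.SpecialLinearGroup.coe_one]
  exact Matrix.one_fin_two.symm

theorem hS_neg_one : hS (-1 : F) = -1 := by
  apply Subtype.ext
  rw [coe_hS (neg_ne_zero.2 one_ne_zero)]
  ext i j
  fin_cases i <;> fin_cases j <;> simp

/-- Decomposition when the lower left entry vanishes. -/
theorem eq_of_lower_zero (g : SL(2, F)) (hc : g 1 0 = 0) : ∃ c, c ≠ 0 ∧ ∃ a, g = hS c * up a := by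
  have hd := g.det_coe
  rw [Matrix.det_fin_two, hc, mul_zero, sub_zero] at hd
  have h1 : g 0 0 ≠ 0 := left_ne_zero_of_mul_eq_one hd
  refine ⟨g 0 0, h1, (g 0 0)⁻¹ * g 0 1, ?_⟩
  apply Subtype.ext
  rw [Matrix.SpecialLinearGroup.coe_mul, coe_hS h1]
  show (g : Matrix (Fin 2) (Fin 2) F) = _ * (!![1, (g 0 0)⁻¹ * g 0 1; 0, 1] : Matrix (Fin 2) (Fin 2) F)
  ext i j
  fin_cases i <;> fin_cases j
  · simp [Matrix.mul_apply, Fin.sum_univ_two]
  · simp [Matrix.mul_apply, Fin.sum_univ_two, h1]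
  · simpa [Matrix.mul_apply, Fin.sum_univ_two] using hc
  · simp only [Matrix.mul_apply, Fin.sum_univ_two]
    simp
    exact eq_inv_of_mul_eq_one_right hd

/-- The big cell. -/
theorem eq_of_lower_ne (g : SL(2, F)) (hc : g 1 0 ≠ 0) : ∃ a b c, c ≠ 0 ∧ g = up a * (hS c * wS 1) * up b := by
  have hd := g.det_coe
  rw [Matrix.det_fin_two] at hd
  have hc' : -(g 1 0)⁻¹ ≠ 0 := neg_ne_zero.2 (inv_ne_zero hc)
  refine ⟨g 0 0 * (g 1 0)⁻¹, g 1 1 * (g 1 0)⁻¹, -(g 1 0)⁻¹, hc', ?_⟩
  apply Subtype.ext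
  rw [Matrix.SpecialLinearGroup.coe_mul, Matrix.SpecialLinearGroup.coe_mul, Matrix.SpecialLinearGroup.coe_mul,
    coe_hS hc', coe_wS one_ne_zero]
  show (g : Matrix (Fin 2) (Fin 2) F) = (!![1, g 0 0 * (g 1 0)⁻¹; 0, 1] : Matrix (Fin 2) (Fin 2) F) * _ *
    (!![1, g 1 1 * (g 1 0)⁻¹; 0, 1] : Matrix (Fin 2) (Fin 2) F)
  ext i j
  fin_cases i <;> fin_cases j
  · simp [Matrix.mul_apply, Fin.sum_univ_two, hc]
  · simp [Matrix.mul_apply, Fin.sum_univ_two]
    field_simp
    linear_combination -hd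
  · simp [Matrix.mul_apply, Fin.sum_univ_two]
  · simp [Matrix.mul_apply, Fin.sum_univ_two]
    field_simp

theorem lower_zero_of_mul {g : SL(2, F)} {a : F} (h : g * up 1 = up a * g) : g 1 0 = 0 := by
  have h1 : (g * up 1 : SL(2, F)) 1 1 = (up a * g : SL(2, F)) 1 1 := by rw [h]
  rw [Matrix.SpecialLinearGroup.coe_mul, Matrix.SpecialLinearGroup.coe_mul] at h1
  have h2 : ((g : Matrix (Fin 2) (Fin 2) F) * (!![1, 1; 0, 1] : Matrix (Fin 2) (Fin 2) F)) 1 1 =
    ((!![1, a; 0, 1] : Matrix (Fin 2) (Fin 2) F) * (g : Matrix (Fin 2) (Fin 2) F)) 1 1 := h1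
  simpa [Matrix.mul_apply, Fin.sum_univ_two] using h2

end Mat

/-! ### The torus and the root groups -/

theorem eq_one_of_mem [Finite Y] (R : RGD cs h p T n X) {i : I} {x : Y} (hx : x ∈ X (sr i)) (hT : x ∈ T) :
    x = 1 := by
  obtain ⟨k, hk⟩ := R.pgrp i ⟨x, hx⟩
  have h1 : x ^ p ^ k = 1 := congrArg Subtype.val hk
  have h2 : orderOf x ∣ Nat.card T := Subgroup.orderOf_dvd_natCard _ hT
  have h3 : orderOf x ∣ p ^ k := orderOf_dvd_of_pow_eq_one h1
  rw [← orderOf_eq_one_iff]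
  exact Nat.eq_one_of_dvd_coprimes (R.tcop.pow_right k) h2 h3

section Nd

variable {i : I} {F : Type*} [Field F] {φ : SL(2, F) →* Y} (R : RGD cs h p T n X) (N : Nd T n X i φ)

include R N

theorem Nd.injective [Finite Y] : Function.Injective φ := by
  rw [injective_iff_map_eq_one]
  intro g hg
  by_cases hc : g 1 0 = 0
  · obtain ⟨c, hc0, a, rfl⟩ := eq_of_lower_zero g hc
    rw [map_mul] at hg
    have ha : φ (up a) ∈ T := by
      rw [eq_inv_of_mul_eq_one_right hg]
      exact inv_mem (N.dia c hc0)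
    have ha0 : a = 0 := N.inj a (eq_one_of_mem R ((N.mem _).2 ⟨a, rfl⟩) ha)
    subst ha0
    rw [up_zero, map_one, mul_one] at hg
    have h1 : φ (hS c * up 1 * (hS c)⁻¹) = φ (up 1) := by
      rw [map_mul, map_mul, map_inv, hg, one_mul, inv_one, mul_one]
    rw [hS_up hc0, mul_one] at h1
    have h2 : φ (up (c * c + -1)) = 1 := by
      rw [← up_mul, map_mul, h1, ← map_mul, up_mul, add_neg_cancel, up_zero, map_one]
    have h3 := N.inj _ h2
    have h4 : (c - 1) * (c + 1) = 0 := by linear_combination h3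
    rcases mul_eq_zero.1 h4 with h5 | h5
    · have : c = 1 := by linear_combination h5
      rw [this, hS_one, up_zero, mul_one]
    · have : c = -1 := by linear_combination h5
      subst this
      rw [hS_neg_one] at hg
      exact absurd hg N.neg
  · exfalso
    obtain ⟨a, b, c, hc0, rfl⟩ := eq_of_lower_ne g hc
    rw [map_mul, map_mul, map_mul, N.w] at hg
    have hX : ∀ a, φ (up a) ∈ X (sr i) := fun a => (N.mem _).2 ⟨a, rfl⟩
    have hni : n i = (φ (hS c))⁻¹ * ((φ (up a))⁻¹ * (φ (up b))⁻¹) := by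
      have h1 : φ (up a) * (φ (hS c) * n i) = (φ (up b))⁻¹ := eq_inv_of_mul_eq_one_left hg
      rw [← h1]; group
    have h2 : cj (n i) (X (sr i)) = X (sr i) := by
      rw [hni, cj_mul, cj_eq_of_mem (mul_mem (inv_mem (hX a)) (inv_mem (hX b)))]
      exact R.tor _ (isRoot_sr cs h i) _ (inv_mem (N.dia c hc0))
    rw [R.conj i _ (isRoot_sr cs h i), rep_simple_sr] at h2
    apply R.notp i
    rw [h2, sup_idem]
    exact R.pgrp i

theorem Nd.conj_eq (y : Y) : y ∈ X (-sr i) ↔ ∃ a, φ (wS 1 * up a * (wS 1)⁻¹) = y := by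
  rw [← rep_simple_sr cs h i, ← R.conj i _ (isRoot_sr cs h i), mem_cj, N.mem]
  constructor
  · rintro ⟨a, ha⟩
    refine ⟨a, ?_⟩
    rw [map_mul, map_mul, map_inv, N.w, ha]
    group
  · rintro ⟨a, rfl⟩
    refine ⟨a, ?_⟩
    rw [map_mul, map_mul, map_inv, N.w]
    group

theorem Nd.range : φ.range = X (sr i) ⊔ X (-sr i) := by
  apply le_antisymm
  · rintro _ ⟨g, rfl⟩
    have h1 : Subgroup.closure (Set.range (up (F := F)) ∪ Set.range (lo (F := F))) ≤
        (X (sr i) ⊔ X (-sr i)).comap φ := by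
      rw [Subgroup.closure_le]
      rintro _ (⟨a, rfl⟩ | ⟨a, rfl⟩)
      · exact (le_sup_left : X (sr i) ≤ _) ((N.mem _).2 ⟨a, rfl⟩)
      · refine (le_sup_right : X (-sr i) ≤ _) ((N.conj_eq R _).2 ⟨-a, ?_⟩)
        rw [← lo_eq]
    exact h1 (mem_closure_SL2 g)
  · refine sup_le ?_ ?_
    · intro y hy
      obtain ⟨a, rfl⟩ := (N.mem y).1 hy
      exact ⟨_, rfl⟩
    · intro y hy
      obtain ⟨a, rfl⟩ := (N.conj_eq R y).1 hy
      exact ⟨_, rfl⟩

theorem Nd.exists_hS [Finite Y] {t : Y} (ht : t ∈ T) (hr : t ∈ X (sr i) ⊔ X (-sr i)) :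
    ∃ c : F, c ≠ 0 ∧ t = φ (hS c) := by
  rw [← N.range R] at hr
  obtain ⟨g, rfl⟩ := hr
  have h1 : φ g * φ (up 1) * (φ g)⁻¹ ∈ X (sr i) := by
    rw [← R.tor _ (isRoot_sr cs h i) _ ht]
    exact conj_mem_cj.2 ((N.mem _).2 ⟨1, rfl⟩)
  obtain ⟨a, ha⟩ := (N.mem _).1 h1
  have h2 : up a = g * up 1 * g⁻¹ := N.injective R (by rw [ha, map_mul, map_mul, map_inv])
  have h3 : g * up 1 = up a * g := by rw [h2]; group
  obtain ⟨c, hc0, b, rfl⟩ := eq_of_lower_zero g (lower_zero_of_mul h3)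
  refine ⟨c, hc0, ?_⟩
  rw [map_mul] at ht ⊢
  have hb : φ (up b) ∈ T := (Subgroup.mul_mem_cancel_left _ (N.dia c hc0)).1 ht
  rw [eq_one_of_mem R ((N.mem _).2 ⟨b, rfl⟩) hb, mul_one]

theorem Nd.card_torus [Finite Y] [Finite F] : Nat.card ↥(T ⊓ (X (sr i) ⊔ X (-sr i))) ≤ Nat.card F - 1 := by
  have : Finite Fˣ := inferInstance
  have h1 : Nat.card ↥(T ⊓ (X (sr i) ⊔ X (-sr i))) ≤ Nat.card Fˣ := by
    have key : ∀ t : ↥(T ⊓ (X (sr i) ⊔ X (-sr i))), ∃ c : Fˣ, (t : Y) = φ (hS (c : F)) := by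
      rintro ⟨t, ht⟩
      obtain ⟨c, hc, e⟩ := N.exists_hS R (Subgroup.mem_inf.1 ht).1 (Subgroup.mem_inf.1 ht).2
      exact ⟨Units.mk0 c hc, e⟩
    choose f hf using key
    refine Nat.card_le_card_of_injective f fun a b hab => ?_
    exact Subtype.ext (by rw [hf, hf, hab])
  rwa [Nat.card_units] at h1

end Nd

end Cfsg.Agent.KFacts.MulOdd.Node

end

-- merged: Cfsg.Agent.KFacts.MulOdd.NodeInst
section

/-!
# From the nodes to the datum
-/

set_option autoImplicit false
set_option linter.unusedSectionVars false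

namespace Cfsg.Agent.KFacts.MulOdd.Node

open CoxeterSystem Cfsg.Agent.ChevalleyStructure.CoxeterGeom Cfsg.Agent.Tits.Roots Cfsg.Agent.Tits.Core
  Cfsg.Agent.Nodes.Reps Cfsg.Agent.Nodes.BNOf Cfsg.Agent.Nodes.RGDLib Cfsg.Agent.KFacts.MulOdd.Inst
open scoped MatrixGroups

/-- **The datum from the nodes.** -/
theorem datum_of_nd {I W Y : Type*} [Fintype I] [DecidableEq I] [Group W] [Group Y] [Finite Y]
    {M : CoxeterMatrix I} {cs : CoxeterSystem M W} {A : I → I → ℤ} {h : IsCartan M A} {p : ℕ} {T : Subgroup Y}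
    {n : I → Y} {X : (I → ℤ) → Subgroup Y} (R : RGD cs h p T n X) (gen : G1 cs h X = ⊤) (hp : p.Prime)
    (hp2 : p ≠ 2) (F : I → Type) [∀ i, Field (F i)] [∀ i, Finite (F i)] (φ : ∀ i, SL(2, F i) →* Y)
    (N : ∀ i, Nd T n X i (φ i)) (hodd : ∀ i, Odd (Nat.card (F i)))
    (hcard : ∏ i, (Nat.card (F i) - 1) ≤ Nat.card T) : Datum cs h p T n X where
  toRGD := R
  gen := gen
  prime := hp
  odd := hp2
  card_le := (Finset.prod_le_prod' fun i _ => (N i).card_torus R).trans hcard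
  slt := fun i => ⟨F i, inferInstance, inferInstance, φ i, hodd i, (N i).injective R, (N i).range R⟩

end Cfsg.Agent.KFacts.MulOdd.Node

end

-- merged: Cfsg.Agent.KFacts.MulOdd.InstChev
section

/-!
# The instances `G₂(q), F₄(q), E₆(q), E₈(q)`, `q` odd (`3 ∤ q - 1` for `E₆`)

`inst_G2, inst_F4, inst_E6, inst_E8`.
-/

set_option autoImplicit false
set_option linter.unusedSectionVars false
set_option Elab.async false

namespace Cfsg.Agent.KFacts.MulOdd.InstChev

open CoxeterSystem Cfsg.Agent.ChevalleyStructure.CoxeterGeom Cfsg.Agent.Tits.Roots Cfsg.Agent.Tits.Core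
  Cfsg.Agent.Tits.RootComb Cfsg.Agent.Nodes.Comb Cfsg.Agent.Nodes.Reps Cfsg.Agent.Nodes.BNOf
  Cfsg.Agent.Nodes.BNOf.RGD
open Cfsg.Lie Cfsg.Agent.ChevalleyStructure Cfsg.Agent.ChevalleyStructure.Elts
  Cfsg.Agent.ChevalleyStructure.NPerm Cfsg.Agent.ChevalleyStructure.CoxeterGeomTypes Cfsg.Agent.Nodes.RGDChev
  Cfsg.Agent.Nodes.RGDFoldSL Cfsg.Agent.KFacts.MulOdd.Node Cfsg.Agent.KFacts.MulOdd.Inst
open Cfsg.Agent.ChevalleyStructure.SL2Hom (up lo mem_closure_SL2)
open scoped MatrixGroups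

/-! ### The parity of the exponents -/

/-- Every simple root has an odd pairing with some other simple root. -/
def parity (D : ChevalleyDatum) (l : ℕ) : Bool :=
  (List.range l).all fun i => (List.range l).any fun j =>
    decide (D.simple j < D.nroots) && decide (HMatDiagAll.expo D (D.simple i) (D.simple j) % 2 = 1)

theorem parity_spec {D : ChevalleyDatum} {l : ℕ} (h : parity D l = true) {i : ℕ} (hi : i < l) :
    ∃ s, s < D.nroots ∧ HMatDiagAll.expo D (D.simple i) s % 2 = 1 := by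
  unfold parity at h
  rw [List.all_eq_true] at h
  have h1 := h i (List.mem_range.2 hi)
  rw [List.any_eq_true] at h1
  obtain ⟨j, -, h2⟩ := h1
  rw [Bool.and_eq_true, decide_eq_true_iff, decide_eq_true_iff] at h2
  exact ⟨_, h2⟩

theorem parity_G2 : parity chevG2 2 = true := by decide +kernel

theorem parity_F4 : parity chevF4 4 = true := by decide +kernel

theorem parity_E6 : parity chevE6 6 = true := by decide +kernel

theorem parity_E8 : parity chevE8 8 = true := by decide +kernel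

theorem zpow_odd {K : Type*} [Field K] {e : ℤ} (he : e % 2 = 1) : (-1 : K) ^ e = -1 :=
  Odd.neg_one_zpow (Int.odd_iff.2 he)

section

variable {D : ChevalleyDatum} {l : ℕ} {M : CoxeterMatrix (Fin l)} {W : Type*} [Group W]
  (hp : IsType D l M) (cs : CoxeterSystem M W)

theorem hG_neg_one_ne {D : ChevalleyDatum} (hD : InList D) {K : Type*} [Field K] (h2 : (2 : K) ≠ 0) {r s : ℕ}
    (hr : r < D.nroots) (hs : s < D.nroots) (he : HMatDiagAll.expo D r s % 2 = 1) :
    hG hD r (-1 : K) ≠ 1 := by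
  intro h0
  have h1 : D.hMat K r (-1) = 1 := by rw [← coe_hG hD, h0, Units.val_one]
  rw [HMatDiagAll.hMat_eq_diagonal hD hr (neg_ne_zero.2 one_ne_zero)] at h1
  have h3 := congrFun (congrFun h1 (Sum.inr ⟨s, hs⟩)) (Sum.inr ⟨s, hs⟩)
  rw [Matrix.diagonal_apply_eq, Matrix.one_apply_eq, Sum.elim_inr, zpow_odd he] at h3
  apply h2
  linear_combination -h3

/-- The homomorphism `SL(2, K) → D.group K` of the node `i`. -/
noncomputable def psiG (hp : IsType D l M) (K : Type) [Field K] (i : Fin l) : SL(2, K) →* ↥(D.group K) :=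
  (psi hp.inList K (D.simple i)).codRestrict (D.group K) fun g => by
    have h := simple_lt hp.inList (lt_rank hp i)
    have h1 := psi_mem hp.inList h g
    rw [← XV_sr hp, ← XV_neg_sr hp] at h1
    exact sup_le (XV_le_group hp _) (XV_le_group hp _) h1

theorem nd (hpar : parity D l = true) (K : Type) [Field K] (h2 : (2 : K) ≠ 0) (i : Fin l) :
    Nd ((D.diagonalSubgroup K).subgroupOf (D.group K))
      (fun i => (⟨nn hp K i, nn_mem_group hp i⟩ : ↥(D.group K)))
      (fun x => (XV D l K x).subgroupOf (D.group K)) i (psiG hp K i) := by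
  have h := simple_lt hp.inList (lt_rank hp i)
  constructor
  · rintro ⟨y, hy⟩
    rw [Subgroup.mem_subgroupOf, XV_sr hp]
    show y ∈ D.rootSubgroup K (D.simple i) ↔ _
    rw [mem_rootSubgroup_iff hp.inList]
    constructor
    · rintro ⟨t, rfl⟩
      exact ⟨t, Subtype.ext (psi_up hp.inList h t)⟩
    · rintro ⟨t, ht⟩
      have h1 : psi hp.inList K (D.simple i) (up t) = y := congrArg Subtype.val ht
      exact ⟨t, by rw [← h1, psi_up hp.inList h]⟩
  · intro a ha
    have h1 : psi hp.inList K (D.simple i) (up a) = 1 := congrArg Subtype.val ha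
    rw [psi_up hp.inList h] at h1
    have h3 : xG hp.inList (D.simple i) a = xG hp.inList (D.simple i) 0 := by rw [h1, xG_zero]
    exact xG_injective hp.inList h h3
  · intro c hc
    rw [Subgroup.mem_subgroupOf]
    show psi hp.inList K (D.simple i) (hS c) ∈ _
    rw [psi_hS hp.inList h]
    exact hG_mem_diagonal hp.inList h hc
  · exact Subtype.ext (psi_wS hp.inList h 1)
  · intro h0
    have h1 : psi hp.inList K (D.simple i) (-1) = 1 := congrArg Subtype.val h0
    rw [← hS_neg_one, psi_hS hp.inList h] at h1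
    obtain ⟨s, hs, he⟩ := parity_spec hpar i.2
    exact hG_neg_one_ne hp.inList h2 h hs he h1

theorem two_ne {K : Type*} [Field K] {p : ℕ} [CharP K p] (hp2 : p ≠ 2) [Finite K] : (2 : K) ≠ 0 := by
  have hpp : p.Prime := CharP.char_is_prime K p
  intro h0
  have h1 : ((2 : ℕ) : K) = 0 := by exact_mod_cast h0
  rw [CharP.cast_eq_zero_iff K p] at h1
  exact hp2 ((Nat.prime_dvd_prime_iff_eq hpp Nat.prime_two).1 h1)

theorem odd_card {K : Type*} [Field K] {p : ℕ} [CharP K p] (hp2 : p ≠ 2) [Finite K] : Odd (Nat.card K) := by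
  have : Fintype K := Fintype.ofFinite K
  rw [Nat.card_eq_fintype_card]
  have h1 : ringChar K ≠ 2 := fun h0 => hp2 ((ringChar.eq K p).symm.trans h0)
  exact Nat.odd_iff.2 (FiniteField.odd_card_of_char_ne_two h1)

include hp in
theorem inst_group (hpar : parity D l = true) (K : Type) [Field K] [Finite K] (p : ℕ) [CharP K p]
    (hp2 : p ≠ 2) (hcard : (Nat.card K - 1) ^ l ≤ Nat.card (D.diagonalSubgroup K)) : Inst ↥(D.group K) := by
  have hpp : p.Prime := CharP.char_is_prime K p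
  have : Fact p.Prime := ⟨hpp⟩
  have : Finite M.Group := finite_W hp M.toCoxeterSystem
  have h2 : (2 : K) ≠ 0 := two_ne hp2
  refine ⟨Fin l, M.Group, inferInstance, inferInstance, inferInstance, inferInstance, M, M.toCoxeterSystem,
    cartanOf D l, hp.isCartan, p, (D.diagonalSubgroup K).subgroupOf (D.group K),
    (fun i => (⟨nn hp K i, nn_mem_group hp i⟩ : ↥(D.group K))),
    (fun x => (XV D l K x).subgroupOf (D.group K)), ?_⟩
  refine datum_of_nd (rgd (K := K) hp M.toCoxeterSystem p) (G1_eq_top hp M.toCoxeterSystem) hpp hp2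
    (fun _ => K) (fun i => psiG hp K i) (nd hp hpar K h2) (fun _ => odd_card hp2) ?_
  rw [Finset.prod_const, Finset.card_univ, Fintype.card_fin]
  refine hcard.trans (le_of_eq ?_)
  exact (Nat.card_congr (Subgroup.subgroupOfEquivOfLe (diagonal_le_group hp.inList K)).toEquiv).symm

end

variable (K : Type) [Field K] [Finite K] (p : ℕ) [CharP K p] (hp2 : p ≠ 2)

include hp2

theorem inst_G2 : Inst ↥(chevG2.group K) := by
  have := Fintype.ofFinite K
  have hp : IsType chevG2 2 CoxeterMatrix.G₂ := by simp [IsType, typeList]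
  refine inst_group hp parity_G2 K p hp2 ?_
  have h1 := Cfsg.Agent.S1035.result (F := K) (q := Fintype.card K) rfl (chevG2, 1) (by simp)
  rw [one_mul] at h1
  refine le_of_eq ?_
  rw [← hp.rank_eq, Nat.card_eq_fintype_card]
  exact h1.symm

theorem inst_F4 : Inst ↥(chevF4.group K) := by
  have := Fintype.ofFinite K
  have hp : IsType chevF4 4 CoxeterMatrix.F₄ := by simp [IsType, typeList]
  refine inst_group hp parity_F4 K p hp2 ?_
  have h1 := Cfsg.Agent.S1035.result (F := K) (q := Fintype.card K) rfl (chevF4, 1) (by simp)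
  rw [one_mul] at h1
  refine le_of_eq ?_
  rw [← hp.rank_eq, Nat.card_eq_fintype_card]
  exact h1.symm

theorem inst_E8 : Inst ↥(chevE8.group K) := by
  have := Fintype.ofFinite K
  have hp : IsType chevE8 8 CoxeterMatrix.E₈ := by simp [IsType, typeList]
  refine inst_group hp parity_E8 K p hp2 ?_
  have h1 := Cfsg.Agent.S1035.result (F := K) (q := Fintype.card K) rfl (chevE8, 1) (by simp)
  rw [one_mul] at h1
  refine le_of_eq ?_
  rw [← hp.rank_eq, Nat.card_eq_fintype_card]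
  exact h1.symm

theorem inst_E6 (h3 : Nat.gcd 3 (Nat.card K - 1) = 1) : Inst ↥(chevE6.group K) := by
  have := Fintype.ofFinite K
  have hp : IsType chevE6 6 CoxeterMatrix.E₆ := by simp [IsType, typeList]
  refine inst_group hp parity_E6 K p hp2 ?_
  have h1 := Cfsg.Agent.S1035.result (F := K) (q := Fintype.card K) rfl
    (chevE6, Nat.gcd 3 (Fintype.card K - 1)) (by simp)
  rw [Nat.card_eq_fintype_card] at h3
  simp only [h3, one_mul] at h1
  refine le_of_eq ?_
  rw [← hp.rank_eq, Nat.card_eq_fintype_card]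
  exact h1.symm

end Cfsg.Agent.KFacts.MulOdd.InstChev

end
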