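import Mathlib
import Cfsg.Agent.KFacts.MulDef
import Cfsg.Agent.KFacts.MulOdd.RankOne
import Cfsg.Agent.GTwoOdd.Core.HFiveB
import Cfsg.Agent.ChevalleyStructure.SL2Hom
import Cfsg.Agent.S0261
import Cfsg.Agent.S0277
import Cfsg.Agent.S0280
import Cfsg.Agent.S0281
import Cfsg.Agent.KFacts.MulOdd.Rows
import Cfsg.Agent.KFacts.MulOdd.Main
import Cfsg.Agent.KFacts.MulOdd.InstTw

-- merged: Cfsg.Agent.KFacts.MulOdd.U3
section

/-!
# No perfect double covers: `PSU₃(q)`, `q` odd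

* `false_of_sl` : a group `X` with a subgroup `H` of odd index which is the product of a subgroup `R` of type
  `SL(2, F)`, `|F|` odd, and of a cyclic group normalising `R` has no perfect double cover: `R` lifts to a normal
  subgroup `R₀` of the preimage `K` of `H` not containing the central involution, `K / R₀` is commutative, and the
  central involution lies in the commutator subgroup of `K` by the transfer;
* `noDouble_PSU` : `H` is the image of `GU₂(q)`.
-/

set_option autoImplicit false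
set_option linter.style.haveILetI false

namespace Cfsg.Agent.KFacts.MulOdd.U3

open Subgroup Cfsg.Agent.KFacts.MulDef Cfsg.Agent.KFacts.MulTwo Cfsg.Agent.KFacts.MulOdd.RankOne
open Cfsg.Agent.ChevalleyStructure.SL2Hom (up lo mem_closure_SL2)
open scoped commutatorElement MatrixGroups

/-! ### Unitriangular matrices -/

section Mat

variable {F : Type*} [Field F]

theorem up_zero : up (0 : F) = 1 := by
  apply Subtype.ext
  show (!![1, 0; 0, 1] : Matrix (Fin 2) (Fin 2) F) = 1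
  exact Matrix.one_fin_two.symm

theorem up_mul (a b : F) : up a * up b = up (a + b) := by
  apply Subtype.ext
  show (!![1, a; 0, 1] : Matrix (Fin 2) (Fin 2) F) * !![1, b; 0, 1] = !![1, a + b; 0, 1]
  ext i j
  fin_cases i <;> fin_cases j <;> simp [Matrix.mul_apply, Fin.sum_univ_two, add_comm]

theorem lo_zero : lo (0 : F) = 1 := by
  apply Subtype.ext
  show (!![1, 0; 0, 1] : Matrix (Fin 2) (Fin 2) F) = 1
  exact Matrix.one_fin_two.symm

theorem lo_mul (a b : F) : lo a * lo b = lo (a + b) := by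
  apply Subtype.ext
  show (!![1, 0; a, 1] : Matrix (Fin 2) (Fin 2) F) * !![1, 0; b, 1] = !![1, 0; a + b, 1]
  ext i j
  fin_cases i <;> fin_cases j <;> simp [Matrix.mul_apply, Fin.sum_univ_two, add_comm]

theorem up_pow (a : F) (k : ℕ) : up a ^ k = up (k * a) := by
  induction k with
  | zero => rw [pow_zero, Nat.cast_zero, zero_mul, up_zero]
  | succ k ih => rw [pow_succ, ih, up_mul, Nat.cast_succ, add_mul, one_mul]

theorem lo_pow (a : F) (k : ℕ) : lo a ^ k = lo (k * a) := by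
  induction k with
  | zero => rw [pow_zero, Nat.cast_zero, zero_mul, lo_zero]
  | succ k ih => rw [pow_succ, ih, lo_mul, Nat.cast_succ, add_mul, one_mul]

end Mat

/-! ### The abstract argument -/

section Abs

variable {X L : Type*} [Group X] [Group L] [Finite L] {π : L →* X} {c : L}

/-- the group generated by the `p`-elements over the subgroup `R` -/
def lf (p : ℕ) (π : L →* X) (R : Subgroup X) : Subgroup L := closure {y | y ^ p = 1 ∧ π y ∈ R}

omit [Finite L] in
theorem lf_conj {p : ℕ} {R : Subgroup X} {h : L} (hh : π h ∈ normalizer (R : Set X)) {y : L}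
    (hy : y ∈ lf p π R) : h * y * h⁻¹ ∈ lf p π R := by
  unfold lf at hy ⊢
  induction hy using closure_induction with
  | mem y hy =>
    refine subset_closure ⟨?_, ?_⟩
    · rw [conj_pow, hy.1, mul_one, mul_inv_cancel]
    · rw [map_mul, map_mul, map_inv]
      exact (mem_normalizer_iff.1 hh _).1 hy.2
  | one => rw [mul_one, mul_inv_cancel]; exact one_mem _
  | mul y z _ _ hy hz =>
    have : h * (y * z) * h⁻¹ = (h * y * h⁻¹) * (h * z * h⁻¹) := by group
    rw [this]; exact mul_mem hy hz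
  | inv y _ hy =>
    have : h * y⁻¹ * h⁻¹ = (h * y * h⁻¹)⁻¹ := by group
    rw [this]; exact inv_mem hy

variable (hd : Dbl π c)

include hd

omit [Finite L] in
theorem exists_lift_odd {p : ℕ} (hp : Odd p) {r : X} (hr : r ^ p = 1) : ∃ y, y ^ p = 1 ∧ π y = r := by
  obtain ⟨y, rfl⟩ := hd.surj r
  rw [← map_pow] at hr
  have hπc : π c = 1 := (hd.ker c).2 (Or.inr rfl)
  rcases (hd.ker _).1 hr with h1 | h1
  · exact ⟨y, h1, rfl⟩
  · refine ⟨y * c, ?_, by rw [map_mul, hπc, mul_one]⟩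
    have h2 : Commute y c := (hd.cen y).symm
    rw [h2.mul_pow, h1]
    obtain ⟨k, rfl⟩ := hp
    rw [pow_succ, pow_mul, pow_two, hd.sq, one_pow, one_mul, hd.sq]

variable {F : Type*} [Field F] [Finite F] (hF : Odd (Nat.card F)) (φ : SL(2, F) →* X)

omit [Finite L] hd in
theorem prime_ringChar : (ringChar F).Prime := by
  haveI : CharP F (ringChar F) := ringChar.charP F
  exact CharP.char_is_prime F (ringChar F)

include hF in
omit [Finite L] hd in
theorem ringChar_ne_two : ringChar F ≠ 2 := by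
  intro h
  haveI : Fintype F := Fintype.ofFinite F
  have h1 := FiniteField.even_card_of_char_two h
  rw [Nat.card_eq_fintype_card, Nat.odd_iff] at hF
  omega

include hF in
omit [Finite L] in
theorem exists_lf (g : SL(2, F)) : ∃ y ∈ lf (ringChar F) π φ.range, π y = φ g := by
  have hodd : Odd (ringChar F) := prime_ringChar.odd_of_ne_two (ringChar_ne_two hF)
  have h0 : ((ringChar F : ℕ) : F) = 0 := CharP.cast_eq_zero F (ringChar F)
  have key : ∀ u : SL(2, F), u ^ ringChar F = 1 → u ∈ ((lf (ringChar F) π φ.range).map π).comap φ := by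
    intro u hu
    obtain ⟨y, hy1, hy2⟩ := exists_lift_odd hd hodd (r := φ u) (by rw [← map_pow, hu, map_one])
    exact ⟨y, subset_closure ⟨hy1, by rw [hy2]; exact ⟨u, rfl⟩⟩, hy2⟩
  have h1 : closure (Set.range (up (F := F)) ∪ Set.range (lo (F := F))) ≤
      ((lf (ringChar F) π φ.range).map π).comap φ := by
    rw [closure_le]
    rintro _ (⟨t, rfl⟩ | ⟨t, rfl⟩)
    · exact key _ (by rw [up_pow, h0, zero_mul, up_zero])
    · exact key _ (by rw [lo_pow, h0, zero_mul, lo_zero])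
  exact h1 (mem_closure_SL2 g)

omit [Finite L] [Finite F] hd in
theorem lf_map (y : L) {p : ℕ} (hy : y ∈ lf p π φ.range) : π y ∈ φ.range := by
  have : lf p π φ.range ≤ φ.range.comap π := by
    unfold lf
    rw [closure_le]
    exact fun z hz => hz.2
  exact this hy

include hF in
/-- The lift of `R` does not contain the central involution. -/
theorem not_mem_lf (hφ : Function.Injective φ) : c ∉ lf (ringChar F) π φ.range := by
  intro hc
  set p := ringChar F with hp
  set H : Subgroup L := lf p π φ.range with hH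
  haveI : Fintype F := Fintype.ofFinite F
  have hF' := hF
  rw [Nat.card_eq_fintype_card] at hF'
  haveI : Fact (Nat.Prime 2) := ⟨Nat.prime_two⟩
  let P0 : Sylow 2 (Matrix.SpecialLinearGroup (Fin 2) F) := default
  obtain ⟨k, -, ⟨e⟩⟩ := Cfsg.Agent.S0261.result hF' P0
  have hmem : ∀ x : H, π x ∈ φ.range := fun x => lf_map φ (x : L) x.2
  let f : H →* Matrix.SpecialLinearGroup (Fin 2) F :=
    (MonoidHom.ofInjective hφ).symm.toMonoidHom.comp ((π.comp H.subtype).codRestrict φ.range hmem)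
  have hfφ : ∀ x : H, φ (f x) = π x := by
    intro x
    exact MonoidHom.apply_ofInjective_symm hφ ⟨π x, hmem x⟩
  have hfs : Function.Surjective f := by
    intro y
    obtain ⟨x, hx, hxy⟩ := exists_lf hd hF φ y
    exact ⟨⟨x, hx⟩, hφ ((hfφ ⟨x, hx⟩).trans hxy)⟩
  have hfk : ∀ x : H, f x = 1 ↔ x = 1 ∨ x = ⟨c, hc⟩ := by
    intro x
    rw [← hφ.eq_iff, hfφ, map_one, hd.ker, Subtype.ext_iff, Subtype.ext_iff]
    rfl
  have hgen : closure {x : H | ∃ k : ℕ, x ^ p ^ k = 1} = ⊤ := by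
    set K := closure {x : H | ∃ k : ℕ, x ^ p ^ k = 1} with hK
    have h2 : H ≤ K.map H.subtype := by
      refine (closure_le _).2 ?_
      rintro y hy
      have hyH : y ∈ H := subset_closure hy
      exact ⟨⟨y, hyH⟩, subset_closure ⟨1, Subtype.ext (by rw [pow_one]; exact hy.1)⟩, rfl⟩
    rw [eq_top_iff]
    intro x _
    obtain ⟨z, hz, hzx⟩ := h2 x.2
    have : z = x := Subtype.ext hzx
    rwa [← this]
  exact false_of_quaternion hfs (c := (⟨c, hc⟩ : H)) (fun h0 => hd.ne (congrArg Subtype.val h0))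
    (fun x => Subtype.ext (hd.cen x)) hfk prime_ringChar (ringChar_ne_two hF) hgen P0.not_dvd_index e

include hF in
/-- **The abstract theorem.** -/
theorem false_of_sl (hφ : Function.Injective φ) {x : X} (hx : x ∈ normalizer (φ.range : Set X))
    (hidx : ¬ 2 ∣ (φ.range ⊔ zpowers x).index) : False := by
  set R0 : Subgroup L := lf (ringChar F) π φ.range with hR0
  set H : Subgroup X := φ.range ⊔ zpowers x with hH
  set K : Subgroup L := H.comap π with hK
  have hKi : K.index = H.index := H.index_comap_of_surjective hd.surj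
  have hπc : π c = 1 := (hd.ker c).2 (Or.inr rfl)
  have hcK : c ∈ K := by
    show π c ∈ H
    rw [hπc]; exact one_mem H
  obtain ⟨x', hx'⟩ := hd.surj x
  have hzx : zpowers x ≤ normalizer (φ.range : Set X) := zpowers_le.2 hx
  have hzx' : ∀ k : ℤ, π (x' ^ k) ∈ normalizer (φ.range : Set X) := by
    intro k
    rw [map_zpow, hx']
    exact zpow_mem hx k
  -- the elements of `K`
  have hel : ∀ h ∈ K, ∃ r ∈ R0, ∃ k : ℤ, h = r * x' ^ k ∨ h = r * x' ^ k * c := by
    intro h hh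
    have h1 : π h ∈ ((φ.range ⊔ zpowers x : Subgroup X) : Set X) := hh
    rw [coe_mul_of_right_le_normalizer_left _ _ hzx] at h1
    obtain ⟨_, ⟨g, rfl⟩, _, ⟨k, rfl⟩, e⟩ := h1
    obtain ⟨r, hr, hr2⟩ := exists_lf hd hF φ g
    refine ⟨r, hr, k, ?_⟩
    have h2 : π ((r * x' ^ k)⁻¹ * h) = 1 := by
      have e' : φ g * x ^ k = π h := e
      rw [map_mul, map_inv, map_mul, map_zpow, hx', hr2, ← e', inv_mul_cancel]
    rcases (hd.ker _).1 h2 with h3 | h3
    · left; exact (inv_mul_eq_one.1 h3).symm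
    · right; rw [← h3]; group
  -- the commutators
  have hcomm : commutator K ≤ R0.subgroupOf K := by
    rw [commutator_eq_closure, closure_le]
    rintro _ ⟨a, b, rfl⟩
    show ⁅a, b⁆ ∈ R0.subgroupOf K
    rw [mem_subgroupOf]
    have main : ∀ r₁ ∈ R0, ∀ r₂ ∈ R0, ∀ k₁ k₂ : ℤ, ⁅r₁ * x' ^ k₁, r₂ * x' ^ k₂⁆ ∈ R0 := by
      intro r₁ hr₁ r₂ hr₂ k₁ k₂
      have e : ⁅r₁ * x' ^ k₁, r₂ * x' ^ k₂⁆ =
          r₁ * (x' ^ k₁ * r₂ * (x' ^ k₁)⁻¹) * (x' ^ k₂ * r₁⁻¹ * (x' ^ k₂)⁻¹) * r₂⁻¹ := by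
        rw [commutatorElement_def]
        have h1 : x' ^ k₁ * x' ^ k₂ = x' ^ k₂ * x' ^ k₁ := by rw [← zpow_add, ← zpow_add, add_comm]
        calc r₁ * x' ^ k₁ * (r₂ * x' ^ k₂) * (r₁ * x' ^ k₁)⁻¹ * (r₂ * x' ^ k₂)⁻¹
            = r₁ * (x' ^ k₁ * r₂ * (x' ^ k₁)⁻¹) * (x' ^ k₁ * x' ^ k₂) * (x' ^ k₁)⁻¹ * r₁⁻¹ * (x' ^ k₂)⁻¹ * r₂⁻¹ := by
              group
          _ = _ := by rw [h1]; group
      rw [e]
      exact mul_mem (mul_mem (mul_mem hr₁ (lf_conj (hzx' k₁) hr₂)) (lf_conj (hzx' k₂) (inv_mem hr₁))) (inv_mem hr₂)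
    have e1 : ∀ y z : L, ⁅y * c, z⁆ = ⁅y, z⁆ := by
      intro y z
      rw [commutatorElement_def, commutatorElement_def]
      calc y * c * z * (y * c)⁻¹ * z⁻¹ = y * (c * z) * c⁻¹ * y⁻¹ * z⁻¹ := by group
        _ = y * z * y⁻¹ * z⁻¹ := by rw [hd.cen z]; group
    have e2 : ∀ y z : L, ⁅y, z * c⁆ = ⁅y, z⁆ := by
      intro y z
      rw [← inv_inj, commutatorElement_inv, commutatorElement_inv, e1]
    obtain ⟨r₁, hr₁, k₁, h1⟩ := hel a a.2
    obtain ⟨r₂, hr₂, k₂, h2⟩ := hel b b.2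
    have e3 : ((⁅a, b⁆ : K) : L) = ⁅(a : L), (b : L)⁆ := rfl
    rw [e3]
    rcases h1 with h1 | h1 <;> rcases h2 with h2 | h2 <;> rw [h1, h2]
    · exact main r₁ hr₁ r₂ hr₂ k₁ k₂
    · rw [e2]; exact main r₁ hr₁ r₂ hr₂ k₁ k₂
    · rw [e1]; exact main r₁ hr₁ r₂ hr₂ k₁ k₂
    · rw [e1, e2]; exact main r₁ hr₁ r₂ hr₂ k₁ k₂
  have h1 := hd.toCtr.hom_eq_one hcK (by rw [hKi]; exact hidx) (Abelianization.of : K →* Abelianization K)
  have h2 : (⟨c, hcK⟩ : K) ∈ commutator K := (QuotientGroup.eq_one_iff (N := commutator K) _).1 h1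
  exact not_mem_lf hd hF φ hφ (hcomm h2)

end Abs

/-! ### `PSU₃(q)` -/

section PSU

open Matrix Cfsg.Agent.LieClassical.HermBasic Cfsg.Agent.GTwoOdd.Core.HFiveB

variable {F : Type*} [Field F] [Fintype F] {q : ℕ} (hF : Fintype.card F = q ^ 2)

/-- `SU₂(q) → GU₂(q)` -/
noncomputable def incl {F : Type*} [Field F] [Fintype F] {q : ℕ} (_hF : Fintype.card F = q ^ 2) : Cfsg.SU 2 F q →* Cfsg.GU 2 F q :=
  (Matrix.SpecialLinearGroup.toGL.comp (Cfsg.SU 2 F q).subtype).codRestrict (Cfsg.GU 2 F q) fun A =>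
    (mem_GU_iff _).2 ((mem_SU_iff A.1).1 A.2)

theorem incl_val (A : Cfsg.SU 2 F q) : (incl hF A).1.1 = A.1.1 := rfl

/-- the determinant -/
noncomputable def dt (F : Type*) [Field F] (q : ℕ) : Cfsg.GU 2 F q →* Fˣ :=
  Matrix.GeneralLinearGroup.det.comp (Cfsg.GU 2 F q).subtype

theorem exists_incl {B : Cfsg.GU 2 F q} (hB : dt F q B = 1) : ∃ A, incl hF A = B := by
  have h1 : B.1.1.det = 1 := congrArg Units.val hB
  let A : SpecialLinearGroup (Fin 2) F := ⟨B.1.1, h1⟩
  have hA : A ∈ Cfsg.SU 2 F q := (mem_SU_iff A).2 ((mem_GU_iff B.1).1 B.2)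
  exact ⟨⟨A, hA⟩, Subtype.ext (Units.ext rfl)⟩

theorem dt_incl (A : Cfsg.SU 2 F q) : dt F q (incl hF A) = 1 := by
  apply Units.ext
  show (incl hF A).1.1.det = 1
  rw [incl_val]
  exact A.1.2

/-- `GU₂(q) → PSU₃(q)` -/
noncomputable def psi (hF : Fintype.card F = q ^ 2) : Cfsg.GU 2 F q →* Cfsg.PSU 3 F q :=
  (QuotientGroup.mk' (center (Cfsg.SU 3 F q))).comp (emb hF)

theorem psi_incl_injective (hq : Odd q) : Function.Injective ((psi hF).comp (incl hF)) := by
  rw [injective_iff_map_eq_one]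
  intro A hA
  have h1 : emb hF (incl hF A) ∈ center (Cfsg.SU 3 F q) := (QuotientGroup.eq_one_iff _).1 hA
  have h2 := center_scalar hF hq h1
  rw [emb_val, incl_val, show A.1.1.det = 1 from A.1.2, inv_one] at h2
  apply Subtype.ext
  apply Subtype.ext
  show A.1.1 = 1
  have h3 := fun i j => congrFun (congrFun h2 i) j
  ext i j
  fin_cases i <;> fin_cases j
  · simpa [blk] using h3 1 1
  · simpa [blk] using h3 1 2
  · simpa [blk] using h3 2 1
  · simpa [blk] using h3 2 2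

theorem odd_ker (hq : Odd q) : Odd (Nat.card (psi (F := F) hF).ker) := by
  have h1 : (psi (F := F) hF).ker = (toC (F := F) hF hq).ker := by
    ext A
    rw [MonoidHom.mem_ker, MonoidHom.mem_ker]
    exact (Subtype.ext_iff (a1 := toC hF hq A) (a2 := 1)).symm
  rw [h1]
  exact Cfsg.Agent.GTwoOdd.Core.HFiveB.odd_ker hF hq

theorem not_dvd_index (hq : Odd q) : ¬ 2 ∣ (psi (F := F) hF).range.index := by
  have h1 := Cfsg.Agent.S0277.result (F := F) hF 2
  have h2 := Cfsg.Agent.S0280.result (F := F) hF 3 (by norm_num)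
  have h3 : (psi (F := F) hF).range.index * Nat.card (psi (F := F) hF).range = Nat.card (Cfsg.PSU 3 F q) := by
    rw [mul_comm]; exact Subgroup.card_mul_index _
  have h4 : Nat.card (psi (F := F) hF).ker * Nat.card (psi (F := F) hF).range = Nat.card (Cfsg.GU 2 F q) := by
    rw [← Subgroup.index_ker]; exact Subgroup.card_mul_index _
  have hk := odd_ker (F := F) hF hq
  set i := (psi (F := F) hF).range.index
  set k := Nat.card (psi (F := F) hF).ker
  set r := Nat.card (psi (F := F) hF).range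
  have e1 : Nat.card (Cfsg.GU 2 F q) = q * ((q + 1) * (q ^ 2 - 1)) := by
    rw [h1]
    simp [Finset.prod_range_succ]
  have e2 : Nat.gcd 3 (q + 1) * ((q + 1) * Nat.card (Cfsg.PSU 3 F q)) =
      q ^ 3 * ((q + 1) * (q ^ 2 - 1) * (q ^ 3 + 1)) := by
    rw [h2]
    simp [Finset.prod_range_succ]
  obtain ⟨m, rfl⟩ := hq
  have hm : 0 < m := by
    rcases Nat.eq_zero_or_pos m with rfl | h
    · exfalso
      have := two_le hF
      omega
    · exact h
  set d := Nat.gcd 3 (2 * m + 1 + 1)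
  have e3 : (2 * m + 1) ^ 2 - 1 = 4 * m * (m + 1) := by
    apply Nat.sub_eq_of_eq_add
    ring
  rw [e3] at e1 e2
  -- `i * d = k * q ^ 2 * (q ^ 2 - q + 1)`
  have key : i * d = k * (2 * m + 1) ^ 2 * (4 * m ^ 2 + 2 * m + 1) := by
    have h5 : (2 * m + 1) * ((2 * m + 1 + 1) * (4 * m * (m + 1))) * (2 * m + 1 + 1) * (i * d) =
        (2 * m + 1) * ((2 * m + 1 + 1) * (4 * m * (m + 1))) * (2 * m + 1 + 1) *
          (k * (2 * m + 1) ^ 2 * (4 * m ^ 2 + 2 * m + 1)) := by
      calc (2 * m + 1) * ((2 * m + 1 + 1) * (4 * m * (m + 1))) * (2 * m + 1 + 1) * (i * d)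
          = Nat.card (Cfsg.GU 2 F (2 * m + 1)) * (2 * m + 1 + 1) * (i * d) := by rw [e1]
        _ = k * r * (2 * m + 1 + 1) * (i * d) := by rw [h4]
        _ = k * (d * ((2 * m + 1 + 1) * (i * r))) := by ring
        _ = k * (d * ((2 * m + 1 + 1) * Nat.card (Cfsg.PSU 3 F (2 * m + 1)))) := by rw [h3]
        _ = k * ((2 * m + 1) ^ 3 * ((2 * m + 1 + 1) * (4 * m * (m + 1)) * ((2 * m + 1) ^ 3 + 1))) := by rw [e2]
        _ = _ := by ring
    exact Nat.eq_of_mul_eq_mul_left (by positivity) h5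
  intro hdvd
  have h6 : 2 ∣ k * (2 * m + 1) ^ 2 * (4 * m ^ 2 + 2 * m + 1) := by
    rw [← key]; exact dvd_mul_of_dvd_left hdvd _
  have h7 : Odd (k * (2 * m + 1) ^ 2 * (4 * m ^ 2 + 2 * m + 1)) := by
    refine (hk.mul (Odd.pow ⟨m, rfl⟩)).mul ⟨2 * m ^ 2 + m, by ring⟩
  exact (Nat.not_even_iff_odd.2 h7) (even_iff_two_dvd.2 h6)

/-- **`PSU₃(q)`, `q` odd, has no perfect double cover.** -/
theorem noDouble_PSU (hF : Fintype.card F = q ^ 2) (hq : Odd q) : NoDouble (Cfsg.PSU 3 F q) := by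
  intro L _ _ π c hd
  obtain ⟨p, n, hp, hchar, hqp, hn⟩ := exists_prime_pow hF
  haveI : Fact p.Prime := ⟨hp⟩
  haveI : Fintype (GaloisField p n) := Fintype.ofFinite _
  have hK : Fintype.card (GaloisField p n) = q := by
    rw [← Nat.card_eq_fintype_card, GaloisField.card p n hn.ne', hqp]
  obtain ⟨e⟩ := Cfsg.Agent.S0281.result hF hK
  let φ : SL(2, GaloisField p n) →* Cfsg.PSU 3 F q := ((psi hF).comp (incl hF)).comp e.symm.toMonoidHom
  have hφ : Function.Injective φ := (psi_incl_injective hF hq).comp e.symm.injective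
  have hrange : φ.range = (dt F q).ker.map (psi hF) := by
    ext y
    constructor
    · rintro ⟨g, rfl⟩
      exact ⟨incl hF (e.symm g), dt_incl hF _, rfl⟩
    · rintro ⟨B, hB, rfl⟩
      obtain ⟨A, rfl⟩ := exists_incl hF hB
      exact ⟨e A, by show psi hF (incl hF (e.symm (e A))) = _; rw [e.symm_apply_apply]⟩
  obtain ⟨⟨ζ, B0, hB0⟩, hgen⟩ := IsCyclic.exists_generator (α := (dt F q).range)
  have hdt : ∀ B, ∃ k : ℤ, dt F q B = dt F q B0 ^ k := by
    intro B
    obtain ⟨k, hk⟩ := hgen ⟨dt F q B, B, rfl⟩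
    refine ⟨k, ?_⟩
    have := congrArg Subtype.val hk
    rw [hB0]
    exact this.symm
  have hx : psi hF B0 ∈ normalizer (φ.range : Set (Cfsg.PSU 3 F q)) := by
    rw [hrange]
    rw [mem_normalizer_iff]
    intro y
    constructor
    · rintro ⟨z, hz, rfl⟩
      refine ⟨B0 * z * B0⁻¹, (MonoidHom.normal_ker (dt F q)).conj_mem z hz B0, by rw [map_mul, map_mul, map_inv]⟩
    · rintro ⟨z, hz, e1⟩
      refine ⟨B0⁻¹ * z * B0, ?_, ?_⟩
      · have := (MonoidHom.normal_ker (dt F q)).conj_mem z hz B0⁻¹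
        rwa [inv_inv] at this
      · rw [map_mul, map_mul, map_inv, e1]
        group
  have hH : φ.range ⊔ zpowers (psi hF B0) = (psi hF).range := by
    apply le_antisymm
    · refine sup_le ?_ (zpowers_le.2 ⟨B0, rfl⟩)
      rw [hrange]
      rintro _ ⟨z, -, rfl⟩
      exact ⟨z, rfl⟩
    · rintro _ ⟨B, rfl⟩
      obtain ⟨k, hk⟩ := hdt B
      have h1 : psi hF B = psi hF (B * (B0 ^ k)⁻¹) * psi hF B0 ^ k := by
        rw [← map_zpow, ← map_mul]; congr 1; group
      rw [h1]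
      refine mul_mem (mem_sup_left ?_) (mem_sup_right (zpow_mem (mem_zpowers _) k))
      rw [hrange]
      refine ⟨_, ?_, rfl⟩
      show dt F q (B * (B0 ^ k)⁻¹) = 1
      rw [map_mul, map_inv, map_zpow, hk, mul_inv_cancel]
  refine false_of_sl hd ?_ φ hφ hx ?_
  · rw [Nat.card_eq_fintype_card, hK]; exact hq
  · rw [hH]; exact not_dvd_index hF hq

end PSU

end Cfsg.Agent.KFacts.MulOdd.U3

end

-- merged: Cfsg.Agent.KFacts.MulOdd.ThreeOdd
section

/-!
# U2: the rows over the field with three elements whose central quotient has odd multiplier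
-/

set_option autoImplicit false

namespace Cfsg.Agent.KFacts.MulOdd.ThreeOdd

open Subgroup Cfsg Cfsg.Agent.OddHalf.Iface Cfsg.Agent.OddHalf.LieOddFam Cfsg.Agent.OddHalf.U2.Cut
  Cfsg.Agent.KFacts.MulDef Cfsg.Agent.KFacts.MulOdd.Rows

universe u

theorem charP_three {F : Type} [Field F] [Fintype F] {n : ℕ} (h : Fintype.card F = 3 ^ n) : CharP F 3 := by
  haveI : Fact (Nat.Prime 3) := ⟨Nat.prime_three⟩
  exact charP_of_card_eq_prime_pow h

theorem u3 : Row.{u} (fun X _ => ∃ (F : Type) (_ : Field F) (_ : Fintype F), Fintype.card F = 9 ∧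
    Nonempty (X ≃* PSU 3 F 3)) := by
  refine row_of fun X _ => ?_
  rintro ⟨F, _, _, hF, ⟨e⟩⟩
  exact (U3.noDouble_PSU (q := 3) (by rw [hF]; norm_num) ⟨1, rfl⟩).congr e.symm

theorem g2 : Row.{u} (fun X _ => FG2 X 3) := by
  refine row_of fun X _ => ?_
  rintro ⟨F, _, _, hF, ⟨e⟩⟩
  haveI : CharP F 3 := charP_three (n := 1) (by rw [hF]; norm_num)
  exact (Main.noDouble (InstChev.inst_G2 F 3 (by norm_num))).congr e.symm

theorem f4 : Row.{u} (fun X _ => FF4 X 3) := by
  refine row_of fun X _ => ?_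
  rintro ⟨F, _, _, hF, ⟨e⟩⟩
  haveI : CharP F 3 := charP_three (n := 1) (by rw [hF]; norm_num)
  exact (Main.noDouble (InstChev.inst_F4 F 3 (by norm_num))).congr e.symm

theorem e6 : Row.{u} (fun X _ => FE6 X 3) := by
  refine row_of fun X _ => ?_
  rintro ⟨F, _, _, hF, ⟨e⟩⟩
  haveI : CharP F 3 := charP_three (n := 1) (by rw [hF]; norm_num)
  exact (Main.noDouble (InstChev.inst_E6 F 3 (by norm_num)
    (by rw [Nat.card_eq_fintype_card, hF]; norm_num))).congr e.symm

theorem e8 : Row.{u} (fun X _ => FE8 X 3) := by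
  refine row_of fun X _ => ?_
  rintro ⟨F, _, _, hF, ⟨e⟩⟩
  haveI : CharP F 3 := charP_three (n := 1) (by rw [hF]; norm_num)
  exact (Main.noDouble (InstChev.inst_E8 F 3 (by norm_num))).congr e.symm

theorem twE6 : Row.{u} (fun X _ => F2E6 X 3) := by
  refine row_of fun X _ => ?_
  rintro ⟨F, _, _, hF, ⟨e⟩⟩
  haveI : CharP F 3 := charP_three (n := 2) hF
  exact (Main.noDouble (InstTw.inst_E6 (q := 3) Nat.prime_three.isPrimePow 3 (by norm_num) hF
    (by norm_num))).congr e.symm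

theorem twD4 : Row.{u} (fun X _ => F3D4 X 3) := by
  refine row_of fun X _ => ?_
  rintro ⟨F, _, _, hF, ⟨e⟩⟩
  haveI : CharP F 3 := charP_three (n := 3) hF
  exact (Main.noDouble (InstTw.inst_D4 (q := 3) Nat.prime_three.isPrimePow 3 (by norm_num) hF)).congr e.symm

/-- **The rows `ThreeOdd` of U2.** -/
theorem threeOdd : Cfsg.Agent.OddHalf.U2.Cut.ThreeOdd.{u} where
  l3 := l3
  u3 := u3
  g2 := g2
  f4 := f4
  e6 := e6
  e8 := e8
  twE6 := twE6
  twD4 := twD4

end Cfsg.Agent.KFacts.MulOdd.ThreeOdd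

end
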